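import Mathlib
import Groth.Prelude.Def_EtCore

/-!
# The sheaf condition for a Galois covering
-/

set_option autoImplicit false

open CategoryTheory CategoryTheory.Limits AlgebraicGeometry Opposite

universe u w

namespace Groth.Agent.EtGalSheaf

section General

variable {C : Type*} [Category C] {Y T : C} (hT : IsTerminal T) {G : Type*} (σ : G → (Y ⟶ Y))
  [HasBinaryProduct Y Y] (P : Cᵒᵖ ⥤ Type w)

theorem map_map (P : Cᵒᵖ ⥤ Type w) {A B D : C} (a : A ⟶ B) (b : B ⟶ D) (s : P.obj (op D)) :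
    P.map a.op (P.map b.op s) = P.map (a ≫ b).op s := by
  simp

/-- For a covering by a single morphism to the terminal object whose self-product is a coproduct of copies,
the sheaf condition says that restriction is injective with image the invariants. -/
theorem isSheafFor_iff
    (hP : Function.Injective (fun s : P.obj (op (Y ⨯ Y)) => fun g : G => P.map (prod.lift (𝟙 Y) (σ g)).op s)) :
    Presieve.IsSheafFor P (Presieve.singleton (hT.from Y)) ↔
      (Function.Injective (P.map (hT.from Y).op) ∧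
        Set.range (P.map (hT.from Y).op) = {s | ∀ g : G, P.map (σ g).op s = s}) := by
  rw [Presieve.isSheafFor_singleton]
  have hrange : ∀ (y : P.obj (op T)) (g : G), P.map (σ g).op (P.map (hT.from Y).op y) = P.map (hT.from Y).op y :=
    fun y g => by rw [map_map, hT.hom_ext (σ g ≫ hT.from Y) (hT.from Y)]
  have key : ∀ x : P.obj (op Y), (∀ g, P.map (σ g).op x = x) →
      ∀ {Z : C} (p₁ p₂ : Z ⟶ Y), p₁ ≫ hT.from Y = p₂ ≫ hT.from Y → P.map p₁.op x = P.map p₂.op x := by
    intro x hx Z p₁ p₂ _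
    have h : P.map (prod.fst : Y ⨯ Y ⟶ Y).op x = P.map (prod.snd : Y ⨯ Y ⟶ Y).op x := hP <| funext fun g => by
      simp only [map_map, prod.lift_fst, prod.lift_snd, hx g]
      simp
    calc P.map p₁.op x = P.map (prod.lift p₁ p₂).op (P.map (prod.fst : Y ⨯ Y ⟶ Y).op x) := by
          rw [map_map, prod.lift_fst]
      _ = _ := by rw [h, map_map, prod.lift_snd]
  have key' : ∀ x : P.obj (op Y),
      (∀ {Z : C} (p₁ p₂ : Z ⟶ Y), p₁ ≫ hT.from Y = p₂ ≫ hT.from Y → P.map p₁.op x = P.map p₂.op x) →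
      ∀ g, P.map (σ g).op x = x := by
    intro x hx g
    have h := hx (σ g) (𝟙 Y) (hT.hom_ext _ _)
    simpa using h
  constructor
  · intro h
    refine ⟨fun y y' e => ?_, Set.ext fun x => ⟨?_, fun hx => ?_⟩⟩
    · obtain ⟨z, -, hz⟩ := h (P.map (hT.from Y).op y) (key _ (hrange y))
      exact (hz y rfl).trans (hz y' e.symm).symm
    · rintro ⟨y, rfl⟩
      exact hrange y
    · obtain ⟨y, hy, -⟩ := h x (key x hx)
      exact ⟨y, hy⟩
  · rintro ⟨hinj, hran⟩ x hx
    obtain ⟨y, hy⟩ : x ∈ Set.range (P.map (hT.from Y).op) := by rw [hran]; exact key' x hx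
    exact ⟨y, hy, fun z hz => hinj (hz.trans hy.symm)⟩

end General

section Etale

variable {X : Scheme.{u}}

theorem subsingleton_obj_of_isEmpty {P : X.Etaleᵒᵖ ⥤ Type w} (hP : Presieve.IsSheaf X.smallEtaleTopology P)
    (Z : X.Etale) [IsEmpty ↥Z.left] : Subsingleton (P.obj (op Z)) := by
  refine ⟨fun a b => ?_⟩
  have h0 : (Sieve.ofArrows (fun i : PEmpty.{1} => Z) (fun i => i.elim)) ∈ X.smallEtaleTopology Z := by
    rw [Scheme.ofArrows_mem_smallEtaleTopology_iff]
    exact Set.eq_univ_of_forall fun z => isEmptyElim z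
  refine (hP _ h0).isSeparatedFor.ext ?_
  rintro W g ⟨_, _, _, ⟨i⟩, rfl⟩
  exact i.elim

variable {ι : Type u} {U : ι → X.Etale} {W : X.Etale} {j : ∀ i, U i ⟶ W}

/-- A categorical coproduct of étale `X`-schemes is disjoint and jointly surjective. -/
theorem cofan_props (h : IsColimit (Cofan.mk W j)) :
    (∀ z : W.left, ∃ i y, (j i).left y = z) ∧
      ∀ (i i' : ι) (y : (U i).left) (y' : (U i').left), (j i).left y = (j i').left y' → i = i' := by
  haveI : ∀ i, Etale (U i).hom := fun i => (U i).prop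
  haveI het : Etale (Sigma.desc fun i => (U i).hom) :=
    IsZariskiLocalAtSource.sigmaDesc (P := @Etale) (fun i => (U i).prop)
  let S : X.Etale := MorphismProperty.Over.mk ⊤ (Sigma.desc fun i => (U i).hom) het
  let k : ∀ i, U i ⟶ S := fun i => MorphismProperty.Over.homMk (Sigma.ι (fun i => (U i).left) i) (Sigma.ι_desc _ _)
  let φ : W ⟶ S := h.desc (Cofan.mk S k)
  have hφ : ∀ i, j i ≫ φ = k i := fun i => h.fac (Cofan.mk S k) ⟨i⟩
  let ψ : S ⟶ W := MorphismProperty.Over.homMk (Sigma.desc fun i => (j i).left) (by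
    refine Sigma.hom_ext _ _ fun i => ?_
    exact (Category.assoc _ _ _).symm.trans ((congrArg (· ≫ W.hom) (Sigma.ι_desc (fun i => (j i).left) i)).trans
      ((MorphismProperty.Over.w (j i)).trans (Sigma.ι_desc (fun i => (U i).hom) i).symm)))
  have hψ : ∀ i, k i ≫ ψ = j i := fun i =>
    MorphismProperty.Over.Hom.ext (Sigma.ι_desc (fun i => (j i).left) i)
  have hid : φ ≫ ψ = 𝟙 W := h.hom_ext fun ⟨i⟩ => by
    change j i ≫ φ ≫ ψ = j i ≫ 𝟙 W
    rw [reassoc_of% hφ i, hψ i, Category.comp_id]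
  have hφ' : ∀ i y, φ.left ((j i).left y) = Sigma.ι (fun i => (U i).left) i y := fun i y =>
    congrArg (fun f => f.left y) (hφ i)
  refine ⟨fun z => ?_, fun i i' y y' e => ?_⟩
  · obtain ⟨⟨i, y⟩, hy⟩ := (sigmaMk (fun i => (U i).left)).surjective (φ.left z)
    refine ⟨i, y, ?_⟩
    rw [sigmaMk_mk] at hy
    calc (j i).left y = (k i ≫ ψ).left y := by rw [hψ]
      _ = ψ.left (φ.left z) := congrArg ψ.left hy
      _ = z := congrArg (fun f => f.left z) hid
  · have h1 := congrArg φ.left e
    rw [hφ', hφ', ← sigmaMk_mk, ← sigmaMk_mk] at h1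
    exact congrArg Sigma.fst ((sigmaMk (fun i => (U i).left)).injective h1)

/-- A sheaf takes a coproduct of étale schemes, with split injections, to a product. -/
theorem bijective_of_cofan {P : X.Etaleᵒᵖ ⥤ Type w} (hP : Presieve.IsSheaf X.smallEtaleTopology P)
    (h : IsColimit (Cofan.mk W j)) [∀ i, Mono (j i)] :
    Function.Bijective (fun s : P.obj (op W) => fun i => P.map (j i).op s) := by
  obtain ⟨hsurj, hdis⟩ := cofan_props h
  have hc : Sieve.ofArrows U j ∈ X.smallEtaleTopology W := by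
    rw [Scheme.ofArrows_mem_smallEtaleTopology_iff]
    refine Set.eq_univ_of_forall fun z => Set.mem_iUnion.2 ?_
    obtain ⟨i, y, hy⟩ := hsurj z
    exact ⟨i, y, hy⟩
  have hs := (Presieve.isSheafFor_iff_generate _).2 (hP _ hc)
  refine ⟨fun a b e => hs.isSeparatedFor.ext ?_, fun x => ?_⟩
  · rintro _ _ ⟨i⟩
    exact congrFun e i
  · obtain ⟨t, ht, -⟩ := (Presieve.isSheafFor_arrows_iff _ _).1 hs x (fun i i' Z gi gi' w => by
      by_cases hii : i = i'
      · subst hii
        rw [(cancel_mono (j i)).1 w]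
      · haveI : IsEmpty ↥Z.left :=
          ⟨fun z => hii (hdis i i' _ _ (congrArg (fun f => f.left z) w))⟩
        exact @Subsingleton.elim _ (subsingleton_obj_of_isEmpty hP Z) _ _)
    exact ⟨t, funext ht⟩

end Etale

end Groth.Agent.EtGalSheaf
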